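import Groth.Agent.FunFldLib.Diff.Local
import Mathlib.RingTheory.Valuation.Extension

/-! The inverse different. -/

set_option autoImplicit false

open WithZero Polynomial
open LocRes (IsExpansionAt)
open scoped IntermediateField

namespace Groth.Agent.FunFldLib.Diff

open FunFld Groth.Agent.FunFldLib

variable {k K K' : Type*} [Field k] [Field K] [Field K'] [Algebra k K] [Algebra K K'] [Algebra k K']
  [IsScalarTower k K K'] [FiniteDimensional K K'] {P : Place k K} {Q : Place k K'} {e : ℕ}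

section Surj

variable [P.1.HasExtension Q.1]
  (hf : Function.Surjective (algebraMap (IsLocalRing.ResidueField P.O) (IsLocalRing.ResidueField Q.O)))
include hf

theorem deg_le (hK : IsFF0 k K) : Q.deg ≤ P.deg := by
  have : FiniteDimensional k (IsLocalRing.ResidueField P.O) := Module.finite_of_finrank_pos (deg_pos hK P)
  let g : IsLocalRing.ResidueField P.O →ₗ[k] IsLocalRing.ResidueField Q.O :=
    { toFun := algebraMap (IsLocalRing.ResidueField P.O) (IsLocalRing.ResidueField Q.O)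
      map_add' := map_add _
      map_smul' := fun c x => by
        refine (congrArg (algebraMap (IsLocalRing.ResidueField P.O) (IsLocalRing.ResidueField Q.O))
          (Algebra.smul_def c x)).trans ?_
        rw [map_mul, RingHom.id_apply]
        refine Eq.trans ?_ (Algebra.smul_def (R := k) c (algebraMap (IsLocalRing.ResidueField P.O) (IsLocalRing.ResidueField Q.O) x)).symm
        congr 1
        exact congrArg (IsLocalRing.residue Q.O) (Subtype.ext (IsScalarTower.algebraMap_apply k K K' c).symm) }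
  exact LinearMap.finrank_le_finrank_of_surjective (f := g) hf

omit [IsScalarTower k K K'] [FiniteDimensional K K'] in
theorem residue_approx {r : K'} (hr : Q.1 r ≤ 1) : ∃ c : P.O, Q.1 (r - algebraMap K K' (c : K)) < 1 := by
  obtain ⟨a, ha⟩ := hf (IsLocalRing.residue Q.O ⟨r, hr⟩)
  obtain ⟨c, rfl⟩ := IsLocalRing.residue_surjective a
  refine ⟨c, ?_⟩
  have h : IsLocalRing.residue Q.O (⟨r, hr⟩ - algebraMap P.O Q.O c) = 0 := by
    rw [map_sub, sub_eq_zero]; exact ha.symm
  rw [IsLocalRing.residue_eq_zero_iff, IsLocalRing.mem_maximalIdeal, mem_nonunits_iff] at h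
  refine lt_of_le_of_ne ((Valuation.map_sub _ _ _).trans (max_le hr ?_)) fun h1 => h ?_
  · exact (algebraMap P.O Q.O c).2
  · set z : Q.O := ⟨r, hr⟩ - algebraMap P.O Q.O c
    have hz : Q.1 (z : K') = 1 := h1
    refine isUnit_iff_exists_inv.2 ⟨⟨(z : K')⁻¹, by
      show Q.1 (z : K')⁻¹ ≤ 1
      rw [map_inv₀, hz, inv_one]⟩, Subtype.ext (mul_inv_cancel₀ fun h0 => by
      rw [h0, map_zero] at hz; exact zero_ne_one hz)⟩

end Surj

theorem approx_mem [Algebra P.O K'] [IsScalarTower P.O K K'] [P.1.HasExtension Q.1]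
    (hf : Function.Surjective (algebraMap (IsLocalRing.ResidueField P.O) (IsLocalRing.ResidueField Q.O)))
    {s : K'} (hs : Q.1 s = exp (-1)) (n : ℕ) {r : K'} (hr : Q.1 r ≤ 1) :
    ∃ ρ ∈ Algebra.adjoin P.O ({s} : Set K'), Q.1 (r - ρ) ≤ exp (-(n : ℤ)) := by
  induction n generalizing r with
  | zero => exact ⟨0, zero_mem _, by simpa using hr⟩
  | succ n ih =>
    obtain ⟨c, hc⟩ := residue_approx hf hr
    rw [lt_one_iff_le] at hc
    have hs0 : s ≠ 0 := fun h => by rw [h, map_zero] at hs; exact exp_ne_zero hs.symm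
    obtain ⟨ρ, hρ, hρ'⟩ := ih (r := (r - algebraMap K K' (c : K)) / s) (by
      rw [map_div₀, hs, div_le_one₀ (exp_pos)]; exact hc)
    refine ⟨algebraMap P.O K' c + s * ρ, add_mem (Subalgebra.algebraMap_mem _ c)
      (mul_mem (Algebra.self_mem_adjoin_singleton _ s) hρ), ?_⟩
    rw [IsScalarTower.algebraMap_apply P.O K K', show algebraMap P.O K c = (c : K) from rfl,
      show r - (algebraMap K K' (c : K) + s * ρ) = s * ((r - algebraMap K K' (c : K)) / s - ρ) by
        field_simp; ring, map_mul, hs]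
    refine (mul_le_mul_right hρ' _).trans_eq ?_
    rw [← exp_add]; congr 1; push_cast; ring

/-- a local parameter at `Q` which is a unit at the other places over `P` -/
theorem exists_parameter (hK : IsFF0 k K) (hQ : IsOver Q P) :
    ∃ s : K', Q.1 s = exp (-1) ∧ ∀ Q' : Place k K', IsOver Q' P → Q' ≠ Q → Q'.1 s = 1 := by
  classical
  obtain ⟨s, hs⟩ := approx_eq (finite_over_place (K' := K') hK P).toFinset (fun _ => 0) (fun R => if R = Q then -1 else 0)
  refine ⟨s, ?_, fun R hR hne => ?_⟩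
  · simpa using hs Q ((Set.Finite.mem_toFinset _).2 hQ)
  · simpa [hne] using hs R ((Set.Finite.mem_toFinset _).2 hR)

variable [Algebra.IsSeparable K K'] [Algebra P.O K'] [IsScalarTower P.O K K']
  {F F' : Type*} [Field F] [Algebra k F] [Field F'] [Algebra k F']
  {φ : K →ₐ[k] LaurentSeries F} {ψ : K' →ₐ[k] LaurentSeries F'}

theorem le_one_of_adjoin (hK : IsFF0 k K) {s : K'} (hint : IsIntegral P.O s) {b : K'}
    (hb : b ∈ Algebra.adjoin P.O ({s} : Set K')) {R : Place k K'} (hR : IsOver R P) : R.1 b ≤ 1 :=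
  le_one_of_isIntegral (Algebra.adjoin_le (S := integralClosure P.O K') (Set.singleton_subset_iff.2 hint) hb) hR

theorem trace_dual (hK : IsFF0 k K) (hsep : Tate.Sep k K)
    [P.1.HasExtension Q.1]
    (hf : Function.Surjective (algebraMap (IsLocalRing.ResidueField P.O) (IsLocalRing.ResidueField Q.O)))
    (he : IsOverWith Q P e) (hφ : IsExpansionAt P.1 φ) (hψ : IsExpansionAt Q.1 ψ)
    {x : K} (hx : LocRes.vDiff φ 1 x ≠ 0) (hx' : LocRes.vDiff ψ 1 (algebraMap K K' x) ≠ 0) :
    (∀ y : K', (∀ z : K', IsIntegral P.O z → P.1 (Algebra.trace K K' (y * z)) ≤ 1) →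
      Q.1 y ≤ exp (LocRes.diffExp φ ψ e x)) ∧
    ∃ y : K', (∀ z : K', IsIntegral P.O z → P.1 (Algebra.trace K K' (y * z)) ≤ 1) ∧
      Q.1 y = exp (LocRes.diffExp φ ψ e x) := by
  classical
  obtain ⟨s, hs, hs'⟩ := exists_parameter hK ⟨e, he⟩
  obtain ⟨hgen, h0⟩ := norm_parameter hK ⟨e, he⟩ hs hs' (deg_le hf hK)
  have hint : IsIntegral P.O s := isIntegral_of_le_one hK fun R hR => by
    rcases eq_or_ne R Q with rfl | hne
    · rw [hs, ← exp_zero, exp_le_exp]; omega
    · exact (hs' R hR hne).le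
  set f := minpoly K s
  have hd : Q.1 (aeval s (derivative f)) = exp (-LocRes.diffExp φ ψ e x) :=
    ord_derivative hsep hφ hψ he hx hx' hs (minpoly_coeff_le hint) h0
  have hR : ∀ z ∈ Algebra.adjoin P.O ({s} : Set K'), IsIntegral P.O z := fun z hz =>
    Algebra.adjoin_le (S := integralClosure P.O K') (Set.singleton_subset_iff.2 hint) hz
  set δ := aeval s (derivative f)
  have hδ : δ ≠ 0 := fun h => by rw [h, map_zero] at hd; exact exp_ne_zero hd.symm
  have hdual := dual_iff hgen hint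
  have htr : ∀ z : K', IsIntegral P.O z → P.1 (Algebra.trace K K' z) ≤ 1 := fun z hz =>
    Tate.trace_int hK P fun R hR => le_one_of_isIntegral hz hR
  have hδR : ∀ z : K', IsIntegral P.O z → δ * z ∈ Algebra.adjoin P.O ({s} : Set K') := fun z hz => by
    rw [mul_comm]; exact (hdual z).1 fun b hb => htr _ (hz.mul (hR b hb))
  refine ⟨fun y hy => ?_, ?_⟩
  · have h1 := le_one_of_adjoin hK hint ((hdual y).1 fun z hz => hy z (hR z hz)) (R := Q) ⟨e, he⟩
    rw [map_mul, hd] at h1
    calc Q.1 y = Q.1 y * exp (-LocRes.diffExp φ ψ e x) * exp (LocRes.diffExp φ ψ e x) := by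
          rw [mul_assoc, ← exp_add]; simp
      _ ≤ 1 * exp (LocRes.diffExp φ ψ e x) := mul_le_mul_left h1 _
      _ = _ := one_mul _
  -- the element of the conductor
  obtain ⟨m, hm, hmin⟩ : ∃ m, P.1 (f.coeff m) = 1 ∧ ∀ i < m, P.1 (f.coeff i) < 1 := by
    have hex : ∃ m, P.1 (f.coeff m) = 1 := ⟨f.natDegree, by
      rw [show f.coeff f.natDegree = 1 from (minpoly.monic (.of_finite K s)).coeff_natDegree, map_one]⟩
    exact ⟨Nat.find hex, Nat.find_spec hex, fun i hi => lt_of_le_of_ne (minpoly_coeff_le hint i) (Nat.find_min hex hi)⟩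
  have hmN : m < f.natDegree + 1 := Nat.lt_succ_of_le (not_lt.1 fun h => by
    rw [coeff_eq_zero_of_natDegree_lt h, map_zero] at hm; exact zero_ne_one hm)
  set g : K' := ∑ i ∈ Finset.Ico m (f.natDegree + 1), algebraMap P.O K' ⟨f.coeff i, minpoly_coeff_le hint i⟩ * s ^ (i - m)
  have hgmem : g ∈ Algebra.adjoin P.O ({s} : Set K') := sum_mem fun i _ =>
    mul_mem (Subalgebra.algebraMap_mem _ _) (pow_mem (Algebra.self_mem_adjoin_singleton _ s) _)
  have hc : ∀ R : Place k K', IsOver R P → ∀ i,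
      R.1 (algebraMap K K' (f.coeff i)) ≤ 1 ∧ (i < m → R.1 (algebraMap K K' (f.coeff i)) < 1) := by
    rintro R ⟨e', he'⟩ i
    rw [he']
    exact ⟨pow_le_one₀ zero_le (minpoly_coeff_le hint i), fun hi => pow_lt_one₀ zero_le (hmin i hi) (over_pos he').ne'⟩
  have hgQ : Q.1 g = 1 := by
    have h00 : Q.1 (algebraMap P.O K' ⟨f.coeff m, minpoly_coeff_le hint m⟩ * s ^ (m - m)) = 1 := by
      rw [Nat.sub_self, pow_zero, mul_one, IsScalarTower.algebraMap_apply P.O K K']
      exact (he _).trans (by rw [show P.1 (algebraMap P.O K ⟨f.coeff m, minpoly_coeff_le hint m⟩) = 1 from hm, one_pow])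
    refine Eq.trans ?_ h00
    refine Valuation.map_sum_eq_of_lt Q.1 (Finset.left_mem_Ico.2 hmN) fun i hi => ?_
    rw [Finset.mem_sdiff, Finset.mem_Ico, Finset.mem_singleton] at hi
    rw [h00, map_mul, map_pow, hs, IsScalarTower.algebraMap_apply P.O K K']
    refine lt_of_le_of_lt (mul_le_of_le_one_left zero_le (hc Q ⟨e, he⟩ i).1) ?_
    rw [← exp_nsmul, ← exp_zero, exp_lt_exp]
    simp only [nsmul_eq_mul]
    omega
  have hgR : ∀ R : Place k K', IsOver R P → R ≠ Q → R.1 g < 1 := fun R hR hne => by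
    have h1 : s ^ m * g = -∑ i ∈ Finset.range m, algebraMap K K' (f.coeff i) * s ^ i := by
      rw [eq_neg_iff_add_eq_zero, add_comm, Finset.mul_sum]
      have h : aeval s f = 0 := minpoly.aeval K s
      rw [aeval_eq_sum_range, ← Finset.sum_range_add_sum_Ico _ hmN.le] at h
      rw [← h]
      congr 1
      · exact Finset.sum_congr rfl fun i _ => (Algebra.smul_def _ _).symm
      · refine Finset.sum_congr rfl fun i hi => ?_
        rw [IsScalarTower.algebraMap_apply P.O K K', Algebra.smul_def, ← mul_assoc, mul_comm (s ^ m), mul_assoc,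
          ← pow_add, Nat.add_sub_cancel' (Finset.mem_Ico.1 hi).1]
        rfl
    have h2 : R.1 g = R.1 (s ^ m * g) := by rw [map_mul, map_pow, hs' R hR hne, one_pow, one_mul]
    rw [h2, h1, Valuation.map_neg]
    refine Valuation.map_sum_lt' _ zero_lt_one fun i hi => ?_
    rw [map_mul, map_pow, hs' R hR hne, one_pow, mul_one]
    exact (hc R hR i).2 (Finset.mem_range.1 hi)
  set S := (finite_over_place (K' := K') hK P).toFinset.erase Q
  have hS : ∀ R ∈ S, R.1 g < 1 := fun R hR => by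
    rw [Finset.mem_erase, Set.Finite.mem_toFinset] at hR; exact hgR R hR.2 hR.1
  obtain ⟨N, hN⟩ := exists_pow_mul_le_finset S (fun R => R.1 g) (fun R => (R.1 δ)⁻¹) (fun _ => 0) hS
  refine ⟨g ^ N / δ, fun z hz => ?_, by rw [map_div₀, map_pow, hgQ, one_pow, hd, one_div, exp_neg, inv_inv]⟩
  obtain ⟨ρ, hρ, hρ'⟩ := approx_mem hf hs (LocRes.diffExp φ ψ e x).toNat (le_one_of_isIntegral hz (Q := Q) ⟨e, he⟩)
  have hr' : IsIntegral P.O (g ^ N * (z - ρ) / δ) := isIntegral_of_le_one hK fun R hR => by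
    rcases eq_or_ne R Q with rfl | hne
    · rw [map_div₀, map_mul, map_pow, hgQ, one_pow, one_mul, hd]
      refine div_le_one_of_le₀ (hρ'.trans ?_) zero_le
      rw [exp_le_exp]; omega
    · have h := hN N le_rfl R (Finset.mem_erase.2 ⟨hne, (Set.Finite.mem_toFinset _).2 hR⟩)
      rw [exp_zero] at h
      rw [map_div₀, map_mul, map_pow, div_eq_mul_inv, mul_right_comm]
      exact mul_le_one₀ h zero_le ((Valuation.map_sub _ _ _).trans
        (max_le (le_one_of_isIntegral hz hR) (le_one_of_adjoin hK hint hρ hR)))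
  refine (hdual (g ^ N * z / δ)).2 ?_ 1 (one_mem _) |> fun h => by rwa [mul_one, ← div_mul_eq_mul_div] at h
  rw [div_mul_cancel₀ _ hδ, show g ^ N * z = g ^ N * ρ + δ * (g ^ N * (z - ρ) / δ) by field_simp; ring]
  exact add_mem (mul_mem (pow_mem hgmem _) hρ) (hδR _ hr')

theorem le_ord_derivative (hK : IsFF0 k K) (hsep : Tate.Sep k K)
    [P.1.HasExtension Q.1]
    (hf : Function.Surjective (algebraMap (IsLocalRing.ResidueField P.O) (IsLocalRing.ResidueField Q.O)))
    (he : IsOverWith Q P e) (hφ : IsExpansionAt P.1 φ) (hψ : IsExpansionAt Q.1 ψ)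
    {x : K} (hx : LocRes.vDiff φ 1 x ≠ 0) (hx' : LocRes.vDiff ψ 1 (algebraMap K K' x) ≠ 0)
    {y : K'} (hy : K⟮y⟯ = ⊤) (hyi : IsIntegral P.O y) :
    LocRes.diffExp φ ψ e x ≤ Q.ord (aeval y (derivative (minpoly K y))) ∧
    (Q.ord (aeval y (derivative (minpoly K y))) = LocRes.diffExp φ ψ e x →
      ∀ z : K', Q.1 z ≤ 1 → ∃ a ∈ Algebra.adjoin P.O ({y} : Set K'), ∃ b ∈ Algebra.adjoin P.O ({y} : Set K'),
        Q.1 b = 1 ∧ z * b = a) := by
  classical
  obtain ⟨-, w, hw, hwQ⟩ := trace_dual hK hsep hf he hφ hψ hx hx'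
  set δ := aeval y (derivative (minpoly K y))
  have hδ : δ ≠ 0 := (Algebra.IsSeparable.isSeparable K y).aeval_derivative_ne_zero (minpoly.aeval _ _)
  have hmem : ∀ r : K', IsIntegral P.O r → r * w * δ ∈ Algebra.adjoin P.O ({y} : Set K') := fun r hr =>
    (dual_iff hy hyi (r * w)).1 fun z hz => by
      rw [mul_comm r w, mul_assoc]
      exact hw _ (hr.mul (Algebra.adjoin_le (S := integralClosure P.O K') (Set.singleton_subset_iff.2 hyi) hz))
  have hb := hmem 1 isIntegral_one
  rw [one_mul] at hb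
  have h1 := le_one_of_adjoin hK hyi hb (R := Q) ⟨e, he⟩
  rw [map_mul, hwQ, v_eq_exp Q hδ, ← exp_add, ← exp_zero, exp_le_exp] at h1
  refine ⟨by omega, fun heq z hz => ?_⟩
  obtain ⟨b', hb', hbR⟩ : ∃ b' : K', Q.1 b' = 1 ∧
      ∀ R : Place k K', IsOver R P → R.1 b' ≤ 1 ∧ R.1 (z * b') ≤ 1 := by
    set S := (finite_over_place (K' := K') hK P).toFinset
    obtain ⟨b', hb'⟩ := approx S (fun R => if R = Q then 1 else 0)
      (fun R => min 0 (min (-1) (-(log (R.1 z)))))
    have hQS : Q ∈ S := (Set.Finite.mem_toFinset _).2 ⟨e, he⟩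
    have hbQ : Q.1 b' = 1 := by
      have h := hb' Q hQS
      simp only [if_pos] at h
      have hlt : Q.1 (b' - 1) < Q.1 1 := by
        rw [map_one]; exact h.trans_lt ((exp_lt_exp.2 (by omega)).trans_eq exp_zero)
      rw [show b' = 1 + (b' - 1) by ring, Valuation.map_add_eq_of_lt_left _ hlt, map_one]
    refine ⟨b', hbQ, fun R hR => ?_⟩
    rcases eq_or_ne R Q with rfl | hne
    · exact ⟨hbQ.le, by rw [map_mul, hbQ, mul_one]; exact hz⟩
    · have h := hb' R ((Set.Finite.mem_toFinset _).2 hR)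
      simp only [if_neg hne, sub_zero] at h
      refine ⟨h.trans ((exp_le_exp.2 (by omega)).trans_eq exp_zero), ?_⟩
      rw [map_mul]
      rcases eq_or_ne (R.1 z) 0 with h0 | h0
      · rw [h0, zero_mul]; exact zero_le
      · refine (mul_le_mul_right h _).trans ?_
        obtain ⟨n, hn⟩ : ∃ n, log (R.1 z) = n := ⟨_, rfl⟩
        rw [hn]
        conv_lhs => rw [← exp_log h0, hn, ← exp_add]
        exact (exp_le_exp.2 (by omega)).trans_eq exp_zero
  refine ⟨z * b' * w * δ, hmem _ (isIntegral_of_le_one hK fun R hR => (hbR R hR).2), b' * w * δ,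
    hmem _ (isIntegral_of_le_one hK fun R hR => (hbR R hR).1), ?_, by ring⟩
  rw [map_mul, map_mul, hb', hwQ, v_eq_exp Q hδ, heq, one_mul, ← exp_add, add_neg_cancel, exp_zero]

end Groth.Agent.FunFldLib.Diff
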