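import Groth.Agent.FunFldLib.Diff.Series
import Groth.Agent.FunFldLib.Tate.TraceFormula
import Groth.Agent.FunFldLib.Gal.Norm
import Mathlib.RingTheory.DedekindDomain.Different

/-! Dedekind's computation of the different exponent. -/

set_option autoImplicit false

open WithZero Polynomial
open LocRes (IsExpansionAt)
open scoped IntermediateField Pointwise

namespace Groth.Agent.FunFldLib.Diff

open FunFld Groth.Agent.FunFldLib

variable {k K K' : Type*} [Field k] [Field K] [Field K'] [Algebra k K] [Algebra K K'] [Algebra k K']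
  [IsScalarTower k K K'] [FiniteDimensional K K'] {P : Place k K} [Algebra P.O K'] [IsScalarTower P.O K K']

omit [IsScalarTower k K K'] [FiniteDimensional K K'] in
theorem le_one_of_isIntegral {f : K'} (hf : IsIntegral P.O f) {Q : Place k K'} (hQ : IsOver Q P) : Q.1 f ≤ 1 := by
  obtain ⟨e, he⟩ := hQ
  obtain ⟨p, hp, hpf⟩ := hf
  by_contra hgt
  push Not at hgt
  have hc : ∀ c : P.O, Q.1 (algebraMap P.O K' c) ≤ 1 := fun c => by
    rw [IsScalarTower.algebraMap_apply P.O K K']; exact (over_le_iff he _).2 c.2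
  have h1 : Q.1 (aeval f p) = Q.1 (p.coeff p.natDegree • f ^ p.natDegree) := by
    rw [aeval_eq_sum_range]
    refine Valuation.map_sum_eq_of_lt Q.1 (Finset.self_mem_range_succ _) fun i hi => ?_
    rw [Finset.mem_sdiff, Finset.mem_range, Finset.mem_singleton] at hi
    rw [hp.coeff_natDegree, one_smul, Algebra.smul_def, map_mul, map_pow, map_pow]
    exact (mul_le_of_le_one_left zero_le (hc _)).trans_lt (pow_lt_pow_right₀ hgt (by omega))
  rw [hp.coeff_natDegree, one_smul, show aeval f p = 0 from hpf, map_zero, map_pow] at h1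
  exact (pow_pos (lt_trans zero_lt_one hgt) _).ne h1

theorem isIntegral_of_le_one (hK : IsFF0 k K) {z : K'} (hz : ∀ Q : Place k K', IsOver Q P → Q.1 z ≤ 1) :
    IsIntegral P.O z := by
  by_contra hnot
  obtain ⟨V, hV, hfV⟩ := Subring.exists_le_valuationSubring_of_isIntegrallyClosedIn
    (R := (integralClosure P.O K').toSubring) (x := z) hnot
  have hOV : ∀ c : P.O, algebraMap K K' c ∈ V := fun c => by
    rw [show algebraMap K K' (c : K) = algebraMap P.O K' c from (IsScalarTower.algebraMap_apply P.O K K' c).symm]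
    exact hV (Subalgebra.algebraMap_mem _ c)
  have hkV : ∀ c : k, algebraMap k K' c ∈ V := fun c => by
    rw [IsScalarTower.algebraMap_apply k K K']; exact hOV ⟨algebraMap k K c, P.2.1 c⟩
  have hz0 : z ≠ 0 := fun e => hfV (e ▸ V.zero_mem)
  obtain ⟨Q, hQ⟩ := exists_place (ff0_ext (K' := K') hK) V hkV ⟨z⁻¹, inv_ne_zero hz0, by
    rw [map_inv₀]
    exact inv_lt_one_of_one_lt₀ (lt_of_not_ge fun hle => hfV ((V.valuation_le_one_iff _).1 hle))⟩
  obtain ⟨R, e, he, hov⟩ := exists_over hK Q
  have hPR : P = R := ext_of_le (P := P) (Q := R) fun y hy => (over_le_iff hov y).1 ((hQ _).2 (hOV ⟨y, hy⟩))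
  exact hfV ((hQ z).1 (hz Q ⟨e, hPR ▸ hov⟩))

omit [IsScalarTower k K K'] in
theorem minpoly_coeff_le {s : K'} (hs : IsIntegral P.O s) (i : ℕ) : P.1 ((minpoly K s).coeff i) ≤ 1 := by
  rw [minpoly.isIntegrallyClosed_eq_field_fractions' K hs, coeff_map]
  exact ((minpoly P.O s).coeff i).2

omit [Algebra P.O K'] [IsScalarTower P.O K K'] in
/-- the order of `f'(s)` when the constant coefficient is a local parameter -/
theorem ord_derivative {F F' : Type*} [Field F] [Algebra k F] [Field F'] [Algebra k F'] {Q : Place k K'} {e : ℕ}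
    (hsep : Tate.Sep k K) {φ : K →ₐ[k] LaurentSeries F} {ψ : K' →ₐ[k] LaurentSeries F'}
    (hφ : IsExpansionAt P.1 φ) (hψ : IsExpansionAt Q.1 ψ) (he : IsOverWith Q P e)
    {x : K} (hx : LocRes.vDiff φ 1 x ≠ 0) (hx' : LocRes.vDiff ψ 1 (algebraMap K K' x) ≠ 0)
    {s : K'} (hs : Q.1 s = exp (-1)) (hint : ∀ i, P.1 ((minpoly K s).coeff i) ≤ 1)
    (h0 : P.1 ((minpoly K s).coeff 0) = exp (-1)) :
    Q.1 (aeval s (derivative (minpoly K s))) = exp (-LocRes.diffExp φ ψ e x) := by
  obtain ⟨t, ht⟩ := hφ.2.2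
  choose c hc hc' using fun i => exists_coeff hsep φ ψ (D_uniformizer hφ ht).2 ((minpoly K s).coeff i)
  set f := minpoly K s
  set a : ℕ → LaurentSeries F' := fun i => ψ (algebraMap K K' (f.coeff i))
  set S := ψ s
  set N := f.natDegree + 1
  have hzero : ∑ i ∈ Finset.range N, a i * S ^ i = 0 := by
    have h : aeval s f = 0 := minpoly.aeval K s
    have := congrArg ψ h
    simp only [aeval_eq_sum_range, map_sum, Algebra.smul_def, map_mul, map_pow, map_zero] at this
    exact this
  have hder : ψ (aeval s (derivative f)) = ∑ i ∈ Finset.range N, a i * ((i : LaurentSeries F') * S ^ (i - 1)) := by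
    rw [aeval_def, derivative_apply, sum_over_range _ (fun n => by simp), eval₂_finsetSum, map_sum]
    refine Finset.sum_congr rfl fun i _ => ?_
    simp [a, S, mul_assoc]
  have hD := congrArg (LocRes.D F') hzero
  simp only [map_sum, Derivation.leibniz, smul_eq_mul, Derivation.leibniz_pow, map_zero, nsmul_eq_mul] at hD
  simp only [show ∀ i, LocRes.D F' (a i) = ψ (algebraMap K K' (c i)) * LocRes.D F' (ψ (algebraMap K K' t))
    from hc'] at hD
  rw [Finset.sum_add_distrib] at hD
  set τ := LocRes.D F' (ψ (algebraMap K K' t))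
  have h1 : ψ (aeval s (derivative f)) * LocRes.D F' S = -(τ * ∑ i ∈ Finset.range N, ψ (algebraMap K K' (c i)) * S ^ i) := by
    rw [hder, Finset.sum_mul, Finset.mul_sum, eq_neg_iff_add_eq_zero, ← hD]
    congr 1
    · exact Finset.sum_congr rfl fun i _ => by ring
    · exact Finset.sum_congr rfl fun i _ => by ring
  have hsum : Valued.v (∑ i ∈ Finset.range N, ψ (algebraMap K K' (c i)) * S ^ i) = 1 := by
    have h00 : Valued.v (ψ (algebraMap K K' (c 0)) * S ^ 0) = 1 := by
      rw [pow_zero, mul_one, hψ.1, he, (coeff_val hφ ht (hc 0)).2 h0, one_pow]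
    rw [← h00]
    refine Valuation.map_sum_eq_of_lt (Valued.v (R := LaurentSeries F')) (Finset.mem_range.2 (Nat.succ_pos _)) fun i hi => ?_
    rw [Finset.mem_sdiff, Finset.mem_singleton] at hi
    rw [h00, map_mul, map_pow, hψ.1, hψ.1, he, hs]
    refine lt_of_le_of_lt (mul_le_of_le_one_left zero_le (pow_le_one₀ zero_le ((coeff_val hφ ht (hc i)).1 (hint i)))) ?_
    rw [← exp_nsmul, ← exp_zero, exp_lt_exp]
    simp only [nsmul_eq_mul]
    omega
  have h2 := congrArg (Valued.v (R := LaurentSeries F')) h1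
  rw [map_mul, hψ.1, D_eq_one (by rw [hψ.1, hs]), mul_one, Valuation.map_neg, map_mul, hsum, mul_one,
    diffExp_eq hsep hφ hψ he hx hx' ht] at h2
  exact h2

omit [Algebra P.O K'] [IsScalarTower P.O K K'] in
/-- a local parameter whose norm is a local parameter -/
theorem norm_parameter (hK : IsFF0 k K) {Q : Place k K'} (hQ : IsOver Q P) {s : K'} (hs : Q.1 s = exp (-1))
    (hs' : ∀ Q' : Place k K', IsOver Q' P → Q' ≠ Q → Q'.1 s = 1) (hdeg : Q.deg ≤ P.deg) :
    K⟮s⟯ = ⊤ ∧ P.1 ((minpoly K s).coeff 0) = exp (-1) := by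
  classical
  set Qs := (finite_over_place (K' := K') hK P).toFinset
  have hQs : ∀ R, R ∈ Qs ↔ IsOver R P := fun R => Set.Finite.mem_toFinset _
  have hN := ord_norm hK P s Qs hQs
  rw [Finset.sum_eq_single_of_mem Q ((hQs Q).2 hQ) fun R hR hne => by
    rw [Place.ord, hs' R ((hQs R).1 hR) hne]; simp, show Q.ord s = 1 by simp [Place.ord, hs], mul_one] at hN
  have hQd : 0 < (Q.deg : ℤ) := by exact_mod_cast deg_pos (ff0_ext (K' := K') hK) Q
  have hPd : 0 < (P.deg : ℤ) := by exact_mod_cast deg_pos hK P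
  have hle : (Q.deg : ℤ) ≤ P.deg := by exact_mod_cast hdeg
  have h1 : P.ord (Algebra.norm K s) = 1 := by
    have hpos : 0 < P.ord (Algebra.norm K s) := pos_of_mul_pos_right (hN ▸ hQd) hPd.le
    nlinarith
  have hs0 : s ≠ 0 := fun h => by rw [h, map_zero] at hs; exact exp_ne_zero hs.symm
  have hint : IsIntegral K s := .of_finite K s
  have hc0 : (minpoly K s).coeff 0 ≠ 0 := minpoly.coeff_zero_ne_zero hint hs0
  rw [Algebra.norm_eq_norm_adjoin K s, ← IntermediateField.adjoin.powerBasis_gen hint,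
    Algebra.PowerBasis.norm_gen_eq_coeff_zero_minpoly, IntermediateField.adjoin.powerBasis_gen, IntermediateField.minpoly_gen,
    ord_pow _ (mul_ne_zero (pow_ne_zero _ (neg_ne_zero.2 one_ne_zero)) hc0),
    ord_mul _ (pow_ne_zero _ (neg_ne_zero.2 one_ne_zero)) hc0, ord_pow _ (neg_ne_zero.2 one_ne_zero),
    show P.ord (-1 : K) = 0 by simp [Place.ord], mul_zero, zero_add] at h1
  have hm := Int.eq_one_of_mul_eq_one_right (Int.natCast_nonneg _) h1
  refine ⟨?_, ?_⟩
  · refine IntermediateField.eq_of_le_of_finrank_le' le_top ?_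
    rw [IntermediateField.finrank_top, show Module.finrank K⟮s⟯ K' = 1 by exact_mod_cast hm]
  · rw [hm, one_mul] at h1
    rw [v_eq_exp _ hc0, h1]

variable [Algebra.IsSeparable K K']

omit [IsScalarTower k K K'] in
/-- Euler's duality -/
theorem dual_iff {s : K'} (hgen : K⟮s⟯ = ⊤) (hs : IsIntegral P.O s) (y : K') :
    (∀ z ∈ Algebra.adjoin P.O ({s} : Set K'), P.1 (Algebra.trace K K' (y * z)) ≤ 1) ↔
      y * aeval s (derivative (minpoly K s)) ∈ Algebra.adjoin P.O ({s} : Set K') := by
  have hx : Algebra.adjoin K ({s} : Set K') = ⊤ := by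
    rw [← IntermediateField.adjoin_simple_toSubalgebra_of_isAlgebraic (Algebra.IsAlgebraic.isAlgebraic s), hgen,
      IntermediateField.top_toSubalgebra]
  have h := SetLike.ext_iff.1 (traceForm_dualSubmodule_adjoin P.O K hx hs) y
  have hne : aeval s (derivative (minpoly K s)) ≠ 0 :=
    (Algebra.IsSeparable.isSeparable K s).aeval_derivative_ne_zero (minpoly.aeval _ _)
  rw [LinearMap.BilinForm.mem_dualSubmodule, Submodule.mem_smul_pointwise_iff_exists] at h
  constructor
  · intro hy
    obtain ⟨b, hb, hby⟩ := h.1 fun z hz => Submodule.mem_one.2 ⟨⟨_, hy z hz⟩, rfl⟩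
    rw [← hby, smul_eq_mul, mul_comm, ← mul_assoc, mul_inv_cancel₀ hne, one_mul]
    exact hb
  · intro hy z hz
    obtain ⟨o, ho⟩ := Submodule.mem_one.1 (h.2 ⟨_, hy, by rw [smul_eq_mul, mul_comm y, inv_mul_cancel_left₀ hne]⟩ z hz)
    rw [Algebra.traceForm_apply] at ho
    exact ho ▸ o.2

end Groth.Agent.FunFldLib.Diff
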