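import Groth.Agent.FunFldLib.Tate.Hurwitz

/-! The different exponent as the order of the derivative of a local parameter. -/

set_option autoImplicit false

open WithZero
open LocRes (IsExpansionAt)

namespace Groth.Agent.FunFldLib.Diff

open FunFld Groth.Agent.FunFldLib Groth.Agent.FunFldLib.Tate

section Series

variable {F : Type*} [Field F]

theorem D_le_one {f : LaurentSeries F} (h : Valued.v f ≤ 1) : Valued.v (LocRes.D F f) ≤ 1 := by
  rw [← exp_zero, ← neg_zero, LaurentSeries.valuation_le_iff_coeff_lt_eq_zero] at h ⊢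
  intro m hm
  rw [LocRes.D_coeff]
  rcases eq_or_ne (m + 1) 0 with h0 | h0
  · rw [h0, zero_smul]
  · rw [h _ (by omega), smul_zero]

theorem D_eq_one {f : LaurentSeries F} (h : Valued.v f = exp (-1 : ℤ)) : Valued.v (LocRes.D F f) = 1 := by
  refine le_antisymm (D_le_one (h.le.trans (by rw [← exp_zero, exp_le_exp]; omega))) (not_lt.1 fun hlt => ?_)
  rw [lt_one_iff_le, LaurentSeries.valuation_le_iff_coeff_lt_eq_zero] at hlt
  have h1 := hlt 0 (by norm_num)
  rw [LocRes.D_coeff, zero_add, one_smul] at h1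
  exact coeff_one_ne_zero h h1

/-- the derivative of a series of order `e` -/
theorem D_le_of_le {f : LaurentSeries F} {e : ℤ} (h : Valued.v f ≤ exp (-e)) :
    Valued.v (LocRes.D F f) ≤ exp (-(e - 1)) ∧ ((e : F) = 0 → Valued.v (LocRes.D F f) ≤ exp (-e)) ∧
      ((e : F) ≠ 0 → Valued.v f = exp (-e) → Valued.v (LocRes.D F f) = exp (-(e - 1))) := by
  have hc := (LaurentSeries.valuation_le_iff_coeff_lt_eq_zero (K := F) (D := e)).1 h
  have h1 : Valued.v (LocRes.D F f) ≤ exp (-(e - 1)) :=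
    (LaurentSeries.valuation_le_iff_coeff_lt_eq_zero (K := F) (D := e - 1)).2 fun m hm => by
      rw [LocRes.D_coeff, hc _ (by omega), smul_zero]
  refine ⟨h1, fun he => (LaurentSeries.valuation_le_iff_coeff_lt_eq_zero (K := F) (D := e)).2 fun m hm => ?_,
    fun he hf => le_antisymm h1 (not_lt.1 fun hlt => ?_)⟩
  · rw [LocRes.D_coeff]
    rcases eq_or_ne (m + 1) e with h0 | h0
    · rw [h0, zsmul_eq_mul, he, zero_mul]
    · rw [hc _ (by omega), smul_zero]
  · rw [lt_exp_iff, show -(e - 1) - 1 = -e by ring, LaurentSeries.valuation_le_iff_coeff_lt_eq_zero] at hlt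
    have h2 := hlt (e - 1) (by omega)
    rw [LocRes.D_coeff, sub_add_cancel, zsmul_eq_mul, mul_eq_zero] at h2
    have h3 : Valued.v f ≤ exp (-(e + 1)) := (LaurentSeries.valuation_le_iff_coeff_lt_eq_zero (K := F) (D := e + 1)).2
      fun m hm => by
        rcases eq_or_ne m e with rfl | hne
        · exact h2.resolve_left he
        · exact hc m (by omega)
    rw [hf, exp_le_exp] at h3
    omega

end Series

variable {k K K' F F' : Type*} [Field k] [Field K] [Field K'] [Algebra k K] [Algebra K K'] [Algebra k K']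
  [IsScalarTower k K K'] [Field F] [Algebra k F] [Field F'] [Algebra k F']
  {P : Place k K} {Q : Place k K'} {e : ℕ}
  {φ : K →ₐ[k] LaurentSeries F} {ψ : K' →ₐ[k] LaurentSeries F'}

/-- the common coefficient of `da` in terms of `dt` -/
theorem exists_coeff (hs : Tate.Sep k K) (φ : K →ₐ[k] LaurentSeries F) (ψ : K' →ₐ[k] LaurentSeries F') {t : K}
    (ht : KaehlerDifferential.D k K t ≠ 0) (a : K) :
    ∃ c : K, LocRes.D F (φ a) = φ c * LocRes.D F (φ t) ∧
      LocRes.D F' (ψ (algebraMap K K' a)) = ψ (algebraMap K K' c) * LocRes.D F' (ψ (algebraMap K K' t)) := by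
  obtain ⟨s, hsep⟩ := hs
  obtain ⟨c₁, h₁⟩ := kaehler_span (k := k) (s := s) a
  obtain ⟨c₂, h₂⟩ := kaehler_span (k := k) (s := s) t
  have h0 : c₂ ≠ 0 := fun h => ht (by rw [h₂, h, zero_smul])
  have h : KaehlerDifferential.D k K a = (c₁ / c₂) • KaehlerDifferential.D k K t := by
    rw [h₁, h₂, smul_smul, div_mul_cancel₀ _ h0]
  refine ⟨c₁ / c₂, ?_, ?_⟩
  · let _ := φ.toRingHom.toAlgebra
    have := LocRes.isScalarTower_exp φ
    have e := congrArg (LocRes.dExp φ).liftKaehlerDifferential h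
    rw [map_smul, Derivation.liftKaehlerDifferential_comp_D, Derivation.liftKaehlerDifferential_comp_D] at e
    exact e
  · set χ : K →ₐ[k] LaurentSeries F' := ψ.comp (IsScalarTower.toAlgHom k K K') with hχ
    let _ := χ.toRingHom.toAlgebra
    have := LocRes.isScalarTower_exp χ
    have e := congrArg (LocRes.dExp χ).liftKaehlerDifferential h
    rw [map_smul, Derivation.liftKaehlerDifferential_comp_D, Derivation.liftKaehlerDifferential_comp_D] at e
    exact e

theorem D_uniformizer (hφ : IsExpansionAt P.1 φ) {t : K} (ht : P.1 t = exp (-1)) :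
    Valued.v (LocRes.D F (φ t)) = 1 ∧ KaehlerDifferential.D k K t ≠ 0 := by
  refine ⟨D_eq_one (by rw [hφ.1, ht]), fun h0 => D_uniformizer_ne_zero hφ ht ?_⟩
  let _ := φ.toRingHom.toAlgebra
  have := LocRes.isScalarTower_exp φ
  have h := congrArg (LocRes.dExp φ).liftKaehlerDifferential h0
  rwa [map_zero, Derivation.liftKaehlerDifferential_comp_D] at h

theorem coeff_val (hφ : IsExpansionAt P.1 φ) {t a c : K} (ht : P.1 t = exp (-1))
    (hc : LocRes.D F (φ a) = φ c * LocRes.D F (φ t)) :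
    (P.1 a ≤ 1 → P.1 c ≤ 1) ∧ (P.1 a = exp (-1) → P.1 c = 1) := by
  have h : P.1 c = Valued.v (LocRes.D F (φ a)) := by
    rw [hc, map_mul, (D_uniformizer hφ ht).1, mul_one, hφ.1]
  exact ⟨fun ha => h ▸ D_le_one (by rwa [hφ.1]), fun ha => h ▸ D_eq_one (by rw [hφ.1, ha])⟩

/-- `diffExp` is the order of the derivative of a local parameter -/
theorem diffExp_eq (hs : Tate.Sep k K) (hφ : IsExpansionAt P.1 φ) (hψ : IsExpansionAt Q.1 ψ) (he : IsOverWith Q P e)
    {x : K} (hx : LocRes.vDiff φ 1 x ≠ 0) (hx' : LocRes.vDiff ψ 1 (algebraMap K K' x) ≠ 0)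
    {t : K} (ht : P.1 t = exp (-1)) :
    Valued.v (LocRes.D F' (ψ (algebraMap K K' t))) = exp (-LocRes.diffExp φ ψ e x) := by
  obtain ⟨c, hc, hc'⟩ := exists_coeff hs φ ψ (D_uniformizer hφ ht).2 x
  have h1 : LocRes.vDiff φ 1 x = P.1 c := by
    rw [LocRes.vDiff, map_one, one_mul, hc, map_mul, hφ.1, (D_uniformizer hφ ht).1, mul_one]
  have h2 : LocRes.vDiff ψ 1 (algebraMap K K' x) = P.1 c ^ e * Valued.v (LocRes.D F' (ψ (algebraMap K K' t))) := by
    rw [LocRes.vDiff, map_one, one_mul, hc', map_mul, hψ.1, he c]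
  have hc0 : P.1 c ≠ 0 := h1 ▸ hx
  have hT : Valued.v (LocRes.D F' (ψ (algebraMap K K' t))) ≠ 0 := right_ne_zero_of_mul (h2 ▸ hx')
  rw [LocRes.diffExp, LocRes.ordDiff, LocRes.ordDiff, h1, h2, log_mul (pow_ne_zero _ hc0) hT, log_pow, nsmul_eq_mul]
  rw [show -(-((e : ℤ) * log (P.1 c) + log (Valued.v (LocRes.D F' (ψ (algebraMap K K' t))))) - (e : ℤ) * -log (P.1 c)) =
    log (Valued.v (LocRes.D F' (ψ (algebraMap K K' t)))) by ring, exp_log hT]

theorem diffExp_tame (hs : Tate.Sep k K) (hφ : IsExpansionAt P.1 φ) (hψ : IsExpansionAt Q.1 ψ) (he : IsOverWith Q P e)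
    {x : K} (hx : LocRes.vDiff φ 1 x ≠ 0) (hx' : LocRes.vDiff ψ 1 (algebraMap K K' x) ≠ 0) :
    (¬ (ringChar K ∣ e) → LocRes.diffExp φ ψ e x = (e : ℤ) - 1) ∧
    (ringChar K ∣ e → (e : ℤ) ≤ LocRes.diffExp φ ψ e x) ∧ (e : ℤ) - 1 ≤ LocRes.diffExp φ ψ e x := by
  obtain ⟨t, ht⟩ := hφ.2.2
  have hv : Valued.v (ψ (algebraMap K K' t)) = exp (-(e : ℤ)) := by
    rw [hψ.1, he, ht, ← exp_nsmul]; simp
  have hd := diffExp_eq hs hφ hψ he hx hx' ht
  obtain ⟨h1, h2, h3⟩ := D_le_of_le hv.le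
  have hchar : ((e : ℤ) : F') = 0 ↔ ringChar K ∣ e := by
    rw [Int.cast_natCast, ← map_natCast (algebraMap k F'), map_eq_zero, ← ringChar.spec K,
      ← map_natCast (algebraMap k K), map_eq_zero]
  refine ⟨fun hn => ?_, fun hdvd => ?_, ?_⟩
  · have := h3 (mt hchar.1 hn) hv
    rw [hd, exp_inj] at this; omega
  · have := h2 (hchar.2 hdvd)
    rw [hd, exp_le_exp] at this; omega
  · rw [hd, exp_le_exp] at h1; omega

end Groth.Agent.FunFldLib.Diff
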